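import Groth.Agent.L07.GrModel
import Groth.Agent.L01.FlatCx.Seq
import Mathlib.RingTheory.Flat.Basic
import Mathlib.RingTheory.Ideal.Quotient.Operations

/-!
Algebra of blowing up a ring in a conductor ideal that becomes invertible upstairs.
-/

set_option autoImplicit false
set_option linter.style.haveILetI false
set_option backward.isDefEq.respectTransparency false

universe u

namespace Groth.L04.PinchBlow

section Ext

variable {A B T : Type u} [CommRing A] [CommRing B] [CommRing T] (β : A →+* B) (I : Ideal A)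
  (ψ : A →+* T)

/-- A map out of a ring `A` extends uniquely to a ring `B` with the same ideal `I` once `I` becomes
principal, generated by a nonzerodivisor. -/
theorem existsUnique_ext (hinj : ∀ x ∈ I, ∀ y ∈ I, β x = β y → x = y)
    (hlift : ∀ x ∈ I, ∀ b : B, ∃ y ∈ I, β y = b * β x)
    {f : T} (hf : f ∈ nonZeroDivisors T) (hI : I.map ψ = Ideal.span {f}) :
    ∃! χ : B →+* T, χ.comp β = ψ := by
  classical
  choose L hLI hL using hlift
  have hdvd : ∀ x ∈ I, f ∣ ψ x := fun x hx =>
    Ideal.mem_span_singleton.1 (hI ▸ Ideal.mem_map_of_mem ψ hx)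
  -- an element is determined by its products with `ψ I`
  have cancel : ∀ t t' : T, (∀ x ∈ I, t * ψ x = t' * ψ x) → t = t' := by
    intro t t' h
    have h1 : I.map ψ ≤ (⊥ : Ideal T).colon {t - t'} := by
      rw [Ideal.map_le_iff_le_comap]
      intro x hx
      simp only [Ideal.mem_comap, Submodule.mem_colon_singleton, Submodule.mem_bot, smul_eq_mul]
      rw [mul_sub, mul_comm, mul_comm (ψ x) t', h x hx, sub_self]
    have h2 := h1 (hI ▸ Ideal.mem_span_singleton_self f)
    simp only [Submodule.mem_colon_singleton, Submodule.mem_bot, smul_eq_mul] at h2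
    exact sub_eq_zero.1 ((mem_nonZeroDivisors_iff.1 hf).1 _ h2)
  -- multiplying by `b`
  have hmul : ∀ (b : B) (x : A) (hx : x ∈ I) (y : A) (hy : y ∈ I),
      ψ (L x hx b) * ψ y = ψ x * ψ (L y hy b) := fun b x hx y hy => by
    rw [← map_mul, ← map_mul]
    refine congrArg ψ (hinj _ (I.mul_mem_right _ (hLI x hx b)) _ (I.mul_mem_right _ hx) ?_)
    rw [map_mul, map_mul, hL, hL]
    ring
  have hex : ∀ b : B, ∃ t : T, ∀ (x : A) (hx : x ∈ I), t * ψ x = ψ (L x hx b) := by
    intro b
    have h1 : f ∈ Submodule.span T (ψ '' (I : Set A)) := by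
      have : f ∈ I.map ψ := hI ▸ Ideal.mem_span_singleton_self f
      exact this
    -- `e` plays the role of `b * f`
    have h2 : ∀ g ∈ Submodule.span T (ψ '' (I : Set A)),
        ∃ e : T, f ∣ e ∧ ∀ (x : A) (hx : x ∈ I), ψ (L x hx b) * g = ψ x * e := by
      intro g hg
      induction hg using Submodule.span_induction with
      | mem g hg =>
        obtain ⟨y, hy, rfl⟩ := hg
        exact ⟨_, hdvd _ (hLI y hy b), fun x hx => hmul b x hx y hy⟩
      | zero => exact ⟨0, dvd_zero f, fun x hx => by simp⟩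
      | add g g' _ _ h h' =>
        obtain ⟨e, he, he'⟩ := h
        obtain ⟨d, hd, hd'⟩ := h'
        exact ⟨e + d, dvd_add he hd, fun x hx => by rw [mul_add, mul_add, he' x hx, hd' x hx]⟩
      | smul c g _ h =>
        obtain ⟨e, he, he'⟩ := h
        exact ⟨c * e, dvd_mul_of_dvd_right he c, fun x hx => by
          rw [smul_eq_mul, mul_left_comm, he' x hx, mul_left_comm]⟩
    obtain ⟨e, ⟨t, rfl⟩, he⟩ := h2 f h1
    refine ⟨t, fun x hx => ?_⟩
    have := he x hx
    have h4 : (t * ψ x - ψ (L x hx b)) * f = 0 := by linear_combination -this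
    exact sub_eq_zero.1 ((mem_nonZeroDivisors_iff.1 hf).2 _ h4)
  choose c hc using hex
  have hLeq : ∀ (x : A) (hx : x ∈ I) (b : B) (y : A), y ∈ I → β y = b * β x → y = L x hx b :=
    fun x hx b y hy h => hinj _ hy _ (hLI x hx b) (h.trans (hL x hx b).symm)
  let χ : B →+* T :=
    { toFun := c
      map_one' := cancel _ _ fun x hx => by
        rw [hc _ x hx, one_mul, ← hLeq x hx 1 x hx (one_mul _).symm]
      map_mul' := fun b b' => cancel _ _ fun x hx => by
        rw [hc _ x hx, mul_assoc, hc b' x hx, hc b _ (hLI x hx b')]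
        refine congrArg ψ (hLeq x hx (b * b') _ (hLI _ _ b) ?_).symm
        rw [hL, hL, mul_assoc]
      map_zero' := cancel _ _ fun x hx => by
        rw [hc _ x hx, zero_mul, ← hLeq x hx 0 0 I.zero_mem (by simp), map_zero]
      map_add' := fun b b' => cancel _ _ fun x hx => by
        rw [hc _ x hx, add_mul, hc b x hx, hc b' x hx, ← map_add]
        refine congrArg ψ (hLeq x hx (b + b') _ (I.add_mem (hLI _ _ b) (hLI _ _ b')) ?_).symm
        rw [map_add, hL, hL, add_mul] }
  refine ⟨χ, RingHom.ext fun a => cancel _ _ fun x hx => ?_, fun χ' h => RingHom.ext fun b =>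
    cancel _ _ fun x hx => ?_⟩
  · show c (β a) * ψ x = ψ a * ψ x
    rw [hc _ x hx, ← map_mul]
    exact congrArg ψ (hLeq x hx (β a) _ (I.mul_mem_left a hx) (map_mul β a x)).symm
  · show χ' b * ψ x = c b * ψ x
    rw [hc _ x hx, ← h, RingHom.comp_apply, RingHom.comp_apply, hL, map_mul]

/-- The ideal `I` generates the kernel upstairs. -/
theorem map_eq (J : Ideal B) (hsub : ∀ x ∈ I, β x ∈ J) (hlift : ∀ y ∈ J, ∃ x ∈ I, β x = y) :
    I.map β = J := by
  refine le_antisymm (Ideal.map_le_iff_le_comap.2 hsub) fun y hy => ?_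
  obtain ⟨x, hx, rfl⟩ := hlift y hy
  exact Ideal.mem_map_of_mem β hx

end Ext


/-- The images of a positive power of the conductor form an ideal upstairs. -/
theorem exists_preimage_pow {A B : Type u} [CommRing A] [CommRing B] (β : A →+* B) (I : Ideal A) (J : Ideal B)
    (hsub : ∀ x ∈ I, β x ∈ J) (hlift : ∀ y ∈ J, ∃ x ∈ I, β x = y) {n : ℕ} (hn : 1 ≤ n) {y : B}
    (hy : y ∈ (I ^ n).map β) : ∃ z ∈ I ^ n, β z = y := by
  obtain ⟨m, rfl⟩ : ∃ m, n = m + 1 := ⟨n - 1, by omega⟩
  have hsmul : ∀ z ∈ I ^ (m + 1), ∀ c : B, ∃ z' ∈ I ^ (m + 1), β z' = c * β z := by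
    intro z hz c
    rw [pow_succ'] at hz ⊢
    refine Submodule.mul_induction_on hz ?_ ?_
    · intro a ha b hb
      obtain ⟨a', ha', ha''⟩ := hlift (c * β a) (J.mul_mem_left c (hsub a ha))
      exact ⟨a' * b, Ideal.mul_mem_mul ha' hb, by rw [map_mul, ha'', map_mul, mul_assoc]⟩
    · rintro a b ⟨za, hza, ea⟩ ⟨zb, hzb, eb⟩
      exact ⟨za + zb, add_mem hza hzb, by rw [map_add, ea, eb, map_add, mul_add]⟩
  induction hy using Submodule.span_induction with
  | mem y hy => obtain ⟨z, hz, rfl⟩ := hy; exact ⟨z, hz, rfl⟩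
  | zero => exact ⟨0, zero_mem _, map_zero β⟩
  | add a b _ _ ha hb =>
    obtain ⟨za, hza, rfl⟩ := ha
    obtain ⟨zb, hzb, rfl⟩ := hb
    exact ⟨za + zb, add_mem hza hzb, map_add β za zb⟩
  | smul c a _ ha =>
    obtain ⟨za, hza, rfl⟩ := ha
    exact hsmul za hza c

section Flat

variable {R A B : Type u} [CommRing R] [CommRing A] [CommRing B] [Algebra R A] [Algebra R B]

/-- An extension of quotients by multiplication with `f`. -/
theorem flat_quotient_ext (f : B) (P P' : Ideal B) (hle : P ≤ Ideal.span {f})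
    (hP : ∀ x, f * x ∈ P ↔ x ∈ P') (h' : Module.Flat R (B ⧸ P'))
    (h : Module.Flat R (B ⧸ Ideal.span {f})) : Module.Flat R (B ⧸ P) := by
  let i₀ : (B ⧸ P') →ₗ[B] (B ⧸ P) :=
    Submodule.mapQ P' P (LinearMap.mulLeft B f) fun x hx => (hP x).2 hx
  let g₀ : (B ⧸ P) →ₗ[B] (B ⧸ Ideal.span {f}) := Submodule.factor hle
  have hi : Function.Injective i₀ := by
    rw [injective_iff_map_eq_zero]
    intro x hx
    induction x using Submodule.Quotient.induction_on with
    | _ x => exact (Submodule.Quotient.mk_eq_zero P').2 ((hP x).1 ((Submodule.Quotient.mk_eq_zero P).1 hx))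
  have hex : Function.Exact i₀ g₀ := by
    intro y
    induction y using Submodule.Quotient.induction_on with
    | _ y =>
      constructor
      · intro hy
        obtain ⟨c, rfl⟩ := Ideal.mem_span_singleton.1 ((Submodule.Quotient.mk_eq_zero _).1 hy)
        exact ⟨Submodule.Quotient.mk c, rfl⟩
      · rintro ⟨x, hx⟩
        induction x using Submodule.Quotient.induction_on with
        | _ x =>
          rw [← hx]
          exact (Submodule.Quotient.mk_eq_zero _).2
            (Ideal.mul_mem_right x _ (Ideal.mem_span_singleton_self f))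
  haveI := h'
  haveI := h
  let i : (B ⧸ P') →ₗ[R] (B ⧸ P) := LinearMap.restrictScalars R i₀
  let g : (B ⧸ P) →ₗ[R] (B ⧸ Ideal.span {f}) := LinearMap.restrictScalars R g₀
  have e1 : ⇑i = ⇑i₀ := rfl
  have e2 : ⇑g = ⇑g₀ := rfl
  have H := @Groth.L07.FlatDescent.flat_of_shortExact R _ (B ⧸ P') (B ⧸ P) (B ⧸ Ideal.span {f}) _ _ _ _ _ _ i g
  exact H (e1 ▸ hi) (e2 ▸ Submodule.factor_surjective hle) (e1 ▸ e2 ▸ hex)

/-- Quotients by powers of a nonzerodivisor with flat quotient are flat. -/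
theorem flat_quotient_pow {f : B} (hf : f ∈ nonZeroDivisors B)
    (h : Module.Flat R (B ⧸ Ideal.span {f})) : ∀ n : ℕ, Module.Flat R (B ⧸ Ideal.span {f} ^ n)
  | 0 => by
    haveI : Subsingleton (B ⧸ Ideal.span {f} ^ 0) := Ideal.Quotient.subsingleton_iff.2 (by simp)
    infer_instance
  | n + 1 => by
    refine flat_quotient_ext f _ (Ideal.span {f} ^ n) (Ideal.pow_le_self n.succ_ne_zero) (fun x => ?_)
      (flat_quotient_pow hf h n) h
    rw [Ideal.span_singleton_pow, Ideal.span_singleton_pow, Ideal.mem_span_singleton,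
      Ideal.mem_span_singleton, pow_succ']
    exact ⟨fun ⟨c, hc⟩ => ⟨c, sub_eq_zero.1 ((mem_nonZeroDivisors_iff.1 hf).1 _
      (by rw [mul_sub, hc, mul_assoc, sub_self]))⟩, fun hx => mul_dvd_mul_left f hx⟩

variable (β : A →ₐ[R] B) (I : Ideal A) (J : Ideal B)

set_option maxHeartbeats 800000 in
/-- The quotient of the pinched ring by a power of the conductor is flat. -/
theorem flat_quotient_conductor (hinj : ∀ x ∈ I, β x = 0 → x = 0) (hsub : ∀ x ∈ I, β x ∈ J)
    (hlift : ∀ y ∈ J, ∃ x ∈ I, β x = y) {n : ℕ} (hn : 1 ≤ n)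
    (hA : Module.Flat R (A ⧸ I)) (hJ : Module.Flat R (B ⧸ J)) (hJn : Module.Flat R (B ⧸ J ^ n)) :
    Module.Flat R (A ⧸ I ^ n) := by
  have hmap : I.map β.toRingHom = J := map_eq β.toRingHom I J hsub hlift
  have hpow : (I ^ n).map β.toRingHom = J ^ n := by rw [Ideal.map_pow, hmap]
  have hcomap : ∀ x ∈ I, β x ∈ J ^ n → x ∈ I ^ n := by
    intro x hx hxn
    rw [← hpow] at hxn
    have hJI := fun y => exists_preimage_pow β.toRingHom I J hsub hlift hn (y := y)
    obtain ⟨z, hz, hzx⟩ := hJI _ hxn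
    have := hinj (x - z) (I.sub_mem hx (Ideal.pow_le_self (by omega) hz))
      (by rw [map_sub]; exact sub_eq_zero.2 hzx.symm)
    rwa [sub_eq_zero.1 this]
  let q : (B ⧸ J ^ n) →ₗ[R] (B ⧸ J) :=
    (Submodule.factor (Ideal.pow_le_self (I := J) (n := n) (by omega))).restrictScalars R
  let g : (A ⧸ I ^ n) →ₗ[R] (A ⧸ I) :=
    (Submodule.factor (Ideal.pow_le_self (I := I) (n := n) (by omega))).restrictScalars R
  let m : (A ⧸ I ^ n) →ₗ[R] (B ⧸ J ^ n) :=
    (Ideal.quotientMapₐ (J ^ n) β (Ideal.map_le_iff_le_comap.1 hpow.le)).toLinearMap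
  have hq : Function.Surjective q := fun y => by
    obtain ⟨y, rfl⟩ := Submodule.mkQ_surjective _ y
    exact ⟨Submodule.Quotient.mk y, rfl⟩
  haveI : Module.Flat R ↥(LinearMap.ker q) :=
    Groth.L01.FlatCx.flat_left (f := (LinearMap.ker q).subtype) (g := q) Subtype.val_injective hq
      (LinearMap.exact_subtype_ker_map q)
  have hqk : ∀ y : B, q (Submodule.Quotient.mk y) = 0 ↔ y ∈ J := fun y => Submodule.Quotient.mk_eq_zero J
  have hgk : ∀ x : A, g (Submodule.Quotient.mk x) = 0 ↔ x ∈ I := fun x => Submodule.Quotient.mk_eq_zero I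
  let m' : ↥(LinearMap.ker g) →ₗ[R] ↥(LinearMap.ker q) := m.restrict fun x hx => by
    obtain ⟨x, rfl⟩ := Submodule.mkQ_surjective _ x
    exact (hqk (β x)).2 (hsub x ((hgk x).1 hx))
  have hm' : Function.Bijective m' := by
    refine ⟨(injective_iff_map_eq_zero _).2 ?_, ?_⟩
    · rintro ⟨x, hx⟩ h
      obtain ⟨x, rfl⟩ := Submodule.mkQ_surjective _ x
      have h' : Ideal.Quotient.mk (J ^ n) (β x) = 0 := congrArg Subtype.val h
      exact Subtype.ext ((Submodule.Quotient.mk_eq_zero _).2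
        (hcomap x ((hgk x).1 hx) (Ideal.Quotient.eq_zero_iff_mem.1 h')))
    · rintro ⟨y, hy⟩
      obtain ⟨y, rfl⟩ := Submodule.mkQ_surjective _ y
      obtain ⟨x, hx, rfl⟩ := hlift y ((hqk y).1 hy)
      exact ⟨⟨Submodule.mkQ _ x, (hgk x).2 hx⟩, Subtype.ext rfl⟩
  haveI : Module.Flat R ↥(LinearMap.ker g) := Module.Flat.of_linearEquiv (LinearEquiv.ofBijective m' hm')
  have hg : Function.Surjective g := fun y => by
    obtain ⟨y, rfl⟩ := Submodule.mkQ_surjective _ y
    exact ⟨Submodule.Quotient.mk y, rfl⟩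
  exact Groth.L07.FlatDescent.flat_of_shortExact (LinearMap.ker g).subtype g Subtype.val_injective hg
    (LinearMap.exact_subtype_ker_map g)

end Flat

end Groth.L04.PinchBlow
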