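import Groth.Agent.L04.PinchBlow.Main

/-!
Flatness of the powers of the ideal of the pinched divisor.
-/

set_option autoImplicit false
set_option linter.style.haveILetI false
set_option backward.isDefEq.respectTransparency false
set_option backward.isDefEq.respectTransparency.types false

universe u

open CategoryTheory CategoryTheory.Limits AlgebraicGeometry TopologicalSpace

noncomputable section

namespace Groth.L04.PinchBlow

open Groth.L20.Pinch
open Groth.L24.PinchBC (flat_of_comp_mono)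

variable {S : Scheme.{u}}

/-- The composite of functions on a base open with the quotient by an ideal. -/
abbrev quotHom {Z : Scheme.{u}} (I : Z.IdealSheafData) (U : Z.affineOpens) (s : Z ⟶ S) (W : S.affineOpens)
    (e : U.1 ≤ s ⁻¹ᵁ W.1) : Γ(S, W.1) →+* Γ(Z, U.1) ⧸ I.ideal U :=
  (Ideal.Quotient.mk (I.ideal U)).comp (s.appLE W.1 U.1 e).hom

theorem cover_f_comp {Z : Scheme.{u}} (I : Z.IdealSheafData) (U : Z.affineOpens) (s : Z ⟶ S)
    (W : S.affineOpens) (e : U.1 ≤ s ⁻¹ᵁ W.1) :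
    I.subschemeCover.f U ≫ I.subschemeι ≫ s =
      Spec.map (CommRingCat.ofHom (quotHom I U s W e)) ≫ W.2.fromSpec := by
  rw [← Category.assoc, Scheme.IdealSheafData.subschemeCover_map_subschemeι, Category.assoc]
  have h1 := congrArg (· ≫ s) (I.glueDataObjι_ι U)
  simp only [Category.assoc] at h1
  refine h1.trans ?_
  rw [← W.2.SpecMap_appLE_fromSpec s U.2 e, ← Category.assoc, ← Spec.map_comp]
  rfl

/-- A closed subscheme is flat over the base if it is so on a cover by affine opens. -/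
theorem flat_subscheme {Z : Scheme.{u}} (I : Z.IdealSheafData) (s : Z ⟶ S)
    (H : ∀ z : Z, ∃ (U : Z.affineOpens) (W : S.affineOpens) (e : U.1 ≤ s ⁻¹ᵁ W.1),
      z ∈ U.1 ∧ (quotHom I U s W e).Flat) : Flat (I.subschemeι ≫ s) := by
  choose U W e hz hflat using H
  let 𝒰 : I.subscheme.OpenCover :=
    { I₀ := Z
      X := fun z => Spec (I.subschemeCover.X (U z))
      f := fun z => I.subschemeCover.f (U z)
      mem₀ := (Scheme.ofArrows_mem_precoverage_iff _).mpr ⟨fun x => ⟨I.subschemeι x, by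
          show x ∈ (I.subschemeCover.f (U (I.subschemeι x))).opensRange
          rw [Scheme.IdealSheafData.opensRange_subschemeCover_map]
          exact hz _⟩, fun z => I.subschemeCover.openCover.map_prop (U z)⟩ }
  refine IsZariskiLocalAtSource.of_openCover (P := @Flat) 𝒰 fun z => ?_
  show Flat (I.subschemeCover.f (U z) ≫ I.subschemeι ≫ s)
  rw [cover_f_comp I (U z) s (W z) (e z)]
  haveI : Flat (Spec.map (CommRingCat.ofHom (quotHom I (U z) s (W z) (e z)))) :=
    (HasRingHomProperty.Spec_iff (P := @Flat)).mpr (hflat z)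
  infer_instance

/-- A flat closed subscheme has flat quotient rings. -/
theorem flat_quotHom {Z : Scheme.{u}} (I : Z.IdealSheafData) (s : Z ⟶ S) [Flat (I.subschemeι ≫ s)]
    (U : Z.affineOpens) (W : S.affineOpens) (e : U.1 ≤ s ⁻¹ᵁ W.1) : (quotHom I U s W e).Flat := by
  haveI : Flat (Spec.map (CommRingCat.ofHom (quotHom I U s W e)) ≫ W.2.fromSpec) := by
    rw [← cover_f_comp I U s W e]
    haveI : IsOpenImmersion (I.subschemeCover.f U) := I.subschemeCover.openCover.map_prop U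
    infer_instance
  exact (HasRingHomProperty.Spec_iff (P := @Flat) (φ := CommRingCat.ofHom (quotHom I U s W e))).mp
    (flat_of_comp_mono _ W.2.fromSpec)

/-- Quotients by the kernel of a closed immersion with flat composite are flat. -/
theorem flat_quotHom_ker {Z V : Scheme.{u}} (c : V ⟶ Z) [IsClosedImmersion c] (s : Z ⟶ S) [Flat (c ≫ s)]
    (U : Z.affineOpens) (W : S.affineOpens) (e : U.1 ≤ s ⁻¹ᵁ W.1) : (quotHom c.ker U s W e).Flat := by
  haveI : Flat (c.ker.subschemeι ≫ s) := by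
    have : c.ker.subschemeι ≫ s = inv c.toImage ≫ c ≫ s := by
      rw [IsIso.eq_inv_comp, ← Category.assoc]
      exact congrArg (· ≫ s) c.toImage_imageι
    rw [this]
    infer_instance
  exact flat_quotHom _ s U W e

/-- Powers of the ideal of an effective Cartier divisor flat over the base are flat over the base. -/
theorem flat_pow_cartier {Z V : Scheme.{u}} (i : V ⟶ Z) [IsClosedImmersion i]
    (hi : BlowUp.IsEffCartierIdeal i.ker) (s : Z ⟶ S) [Flat (i ≫ s)] (n : ℕ) :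
    Flat ((i.ker ^ n).subschemeι ≫ s) := by
  refine flat_subscheme _ s fun z => ?_
  obtain ⟨V₀, hzV₀, φ, hφ, hI⟩ := hi z
  obtain ⟨_, ⟨W, hW, rfl⟩, hzW, -⟩ :=
    S.isBasis_affineOpens.exists_subset_of_mem_open (Set.mem_univ (s z)) isOpen_univ
  obtain ⟨r, hr, hzr⟩ := V₀.2.exists_basicOpen_le (V := s ⁻¹ᵁ W) ⟨z, hzW⟩ hzV₀
  obtain ⟨ψ, hψ, hI'⟩ := principal_basicOpen i.ker hφ hI r
  refine ⟨Z.affineBasicOpen r, ⟨W, hW⟩, hr, hzr, ?_⟩
  have h1 := flat_quotHom_ker i s (Z.affineBasicOpen r) ⟨W, hW⟩ hr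
  letI := (s.appLE W (Z.affineBasicOpen r).1 hr).hom.toAlgebra
  have h2 : Module.Flat Γ(S, W) (Γ(Z, (Z.affineBasicOpen r).1) ⧸ Ideal.span {ψ}) := by
    rw [← hI']
    exact (RingHom.flat_algebraMap_iff).1 h1
  have h3 := flat_quotient_pow hψ h2 n
  rw [← hI', show i.ker.ideal (Z.affineBasicOpen r) ^ n = (i.ker ^ n).ideal (Z.affineBasicOpen r) by
    rw [Scheme.IdealSheafData.ideal_pow]; rfl] at h3
  exact (RingHom.flat_algebraMap_iff).2 h3

variable {X Y Z P : Scheme.{u}} {i : Z ⟶ X} {f : Z ⟶ Y} {a : X ⟶ P} {c : Y ⟶ P}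
  [IsClosedImmersion i] [IsClosedImmersion c]

/-- The subschemes defined by powers of the ideal of the pinched divisor are flat. -/
theorem flat_pow (h : IsPinch i f a c) (hi : BlowUp.IsEffCartierIdeal i.ker) (q : P ⟶ S)
    [Flat (c ≫ q)] [Flat (i ≫ a ≫ q)] (n : ℕ) (hn : 1 ≤ n) : Flat ((c.ker ^ n).subschemeι ≫ q) := by
  refine flat_subscheme _ q fun p => ?_
  obtain ⟨_, ⟨W, hW, rfl⟩, hpW, -⟩ :=
    S.isBasis_affineOpens.exists_subset_of_mem_open (Set.mem_univ (q p)) isOpen_univ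
  obtain ⟨O, U, hpO, hOW, hC⟩ := exists_chart h (q ⁻¹ᵁ W) p hpW
  refine ⟨O, ⟨W, hW⟩, hOW, hpO, ?_⟩
  have eUW : U.1 ≤ (a ≫ q) ⁻¹ᵁ W := by
    rw [Scheme.Hom.comp_preimage, ← hC.eU]
    exact a.preimage_mono hOW
  haveI := flat_pow_cartier i hi (a ≫ q) n
  have hA := flat_quotHom_ker c q O ⟨W, hW⟩ hOW
  have hB := flat_quotHom_ker i (a ≫ q) U ⟨W, hW⟩ eUW
  have hBn := flat_quotHom (i.ker ^ n) (a ≫ q) U ⟨W, hW⟩ eUW
  letI := (q.appLE W O.1 hOW).hom.toAlgebra
  letI := ((a ≫ q).appLE W U.1 eUW).hom.toAlgebra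
  let β : Γ(P, O.1) →ₐ[Γ(S, W)] Γ(X, U.1) :=
    { (a.appLE O.1 U.1 hC.eU.ge).hom with
      commutes' := fun r => by
        show (q.appLE W O.1 hOW ≫ a.appLE O.1 U.1 hC.eU.ge) r = _
        rw [Scheme.Hom.appLE_comp_appLE]
        rfl }
  have hA' : Module.Flat Γ(S, W) (Γ(P, O.1) ⧸ c.ker.ideal O) := RingHom.flat_algebraMap_iff.1 hA
  have hB' : Module.Flat Γ(S, W) (Γ(X, U.1) ⧸ i.ker.ideal U) := RingHom.flat_algebraMap_iff.1 hB
  have hBn' : Module.Flat Γ(S, W) (Γ(X, U.1) ⧸ i.ker.ideal U ^ n) := by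
    have := RingHom.flat_algebraMap_iff.1 hBn
    rwa [Scheme.IdealSheafData.ideal_pow] at this
  have := flat_quotient_conductor β (c.ker.ideal O) (i.ker.ideal U)
    (fun x hx hx0 => hC.inj x hx 0 (zero_mem _) (hx0.trans (map_zero _).symm)) hC.sub hC.lift hn hA' hB' hBn'
  have e : (c.ker ^ n).ideal O = c.ker.ideal O ^ n := by rw [Scheme.IdealSheafData.ideal_pow]; rfl
  rw [← e] at this
  exact RingHom.flat_algebraMap_iff.2 this

end Groth.L04.PinchBlow
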