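import Groth.Agent.L04.PinchBlow.Alg
import Groth.Agent.L20.Pinch.Cases
import Groth.Agent.L24.PinchBC.FlatPush
import Groth.Agent.L22.Ideal
import Groth.Prelude.Def_BlowUp2

/-!
A pinched scheme is blown up along the image of the pinched divisor.
-/

set_option autoImplicit false
set_option linter.style.haveILetI false
set_option backward.isDefEq.respectTransparency false
set_option backward.isDefEq.respectTransparency.types false

universe u

open CategoryTheory CategoryTheory.Limits AlgebraicGeometry TopologicalSpace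

noncomputable section

namespace Groth.L04.PinchBlow

open Groth.L20.Pinch
open Groth.L09.Patch (sp)

variable {X Y Z P S : Scheme.{u}} {i : Z ⟶ X} {f : Z ⟶ Y} {a : X ⟶ P} {c : Y ⟶ P}

theorem ker_appLE_eq {A B : Scheme.{u}} (φ : A ⟶ B) (O : B.Opens) {U : A.Opens} (h : φ ⁻¹ᵁ O = U) :
    RingHom.ker (φ.appLE O U h.ge).hom = RingHom.ker (φ.app O).hom := by
  subst h
  rw [Scheme.Hom.app_eq_appLE]

theorem surjective_appLE {A B : Scheme.{u}} (φ : A ⟶ B) [IsClosedImmersion φ] {O : B.Opens}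
    (hO : IsAffineOpen O) {U : A.Opens} (h : φ ⁻¹ᵁ O = U) : Function.Surjective (φ.appLE O U h.ge) := by
  subst h
  rw [← Scheme.Hom.app_eq_appLE]
  exact φ.app_surjective O hO

/-- On an affine open of the pinched scheme the kernel on the pinched side is the ideal upstairs. -/
structure Chart (a : X ⟶ P) (c : Y ⟶ P) (i : Z ⟶ X)
    (O : P.affineOpens) (U : X.affineOpens) : Prop where
  eU : a ⁻¹ᵁ O.1 = U.1
  inj : ∀ x ∈ c.ker.ideal O, ∀ y ∈ c.ker.ideal O,
    a.appLE O.1 U.1 eU.ge x = a.appLE O.1 U.1 eU.ge y → x = y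
  sub : ∀ x ∈ c.ker.ideal O, a.appLE O.1 U.1 eU.ge x ∈ i.ker.ideal U
  lift : ∀ y ∈ i.ker.ideal U, ∃ x ∈ c.ker.ideal O, a.appLE O.1 U.1 eU.ge x = y

variable [IsClosedImmersion i] [IsClosedImmersion c]

theorem exists_chart (h : IsPinch i f a c) (W : P.Opens) (p : P) (hp : p ∈ W) :
    ∃ (O : P.affineOpens) (U : X.affineOpens), p ∈ O.1 ∧ O.1 ≤ W ∧ Chart a c i O U := by
  obtain ⟨k, u, hu, hpu, hX, hY, hXr, hYr, hle⟩ := h.exists_chart_le W p hp
  haveI := hu
  have hO : IsAffineOpen u.opensRange := isAffineOpen_opensRange u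
  let e := IsOpenImmersion.isoOfRangeEq u hO.fromSpec (by rw [hO.range_fromSpec]; rfl)
  have he : e.hom ≫ hO.fromSpec = u := IsOpenImmersion.isoOfRangeEq_hom_fac _ _ _
  let θ : Γ(P, u.opensRange) ⟶ CommRingCat.of k.R := Spec.preimage e.hom
  let θ' : CommRingCat.of k.R ⟶ Γ(P, u.opensRange) := Spec.preimage e.inv
  have hθ₁ : θ ≫ θ' = 𝟙 _ := Spec.map_injective (by
    rw [Spec.map_comp, Spec.map_preimage, Spec.map_preimage, e.inv_hom_id, Spec.map_id])
  have hθ₂ : θ' ≫ θ = 𝟙 _ := Spec.map_injective (by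
    rw [Spec.map_comp, Spec.map_preimage, Spec.map_preimage, e.hom_inv_id, Spec.map_id])
  have eU : a ⁻¹ᵁ u.opensRange = k.U := TopologicalSpace.Opens.ext hXr
  have eV : c ⁻¹ᵁ u.opensRange = k.V := TopologicalSpace.Opens.ext hYr
  have ha : a.appLE u.opensRange k.U eU.ge = θ ≫ CommRingCat.ofHom k.p2 := by
    apply Spec.map_injective
    rw [← cancel_mono hO.fromSpec, hO.SpecMap_appLE_fromSpec a k.hU, Spec.map_comp, Category.assoc,
      Spec.map_preimage, he, hX]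
  have hc : c.appLE u.opensRange k.V eV.ge = θ ≫ CommRingCat.ofHom k.p1 := by
    apply Spec.map_injective
    rw [← cancel_mono hO.fromSpec, hO.SpecMap_appLE_fromSpec c k.hV, Spec.map_comp, Category.assoc,
      Spec.map_preimage, he, hY]
  have hcker : c.ker.ideal ⟨_, hO⟩ = RingHom.ker (c.appLE u.opensRange k.V eV.ge).hom := by
    rw [ker_appLE_eq c _ eV, c.ker_apply ⟨_, hO⟩]
  have hiker : i.ker.ideal ⟨_, k.hU⟩ = RingHom.ker k.r2 := i.ker_apply ⟨_, k.hU⟩
  refine ⟨⟨_, hO⟩, ⟨k.U, k.hU⟩, hpu, hle, eU, fun x hx y hy hxy => ?_, fun x hx => ?_, fun y hy => ?_⟩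
  · rw [hcker, RingHom.mem_ker, hc] at hx hy
    rw [ha] at hxy
    have h1 : θ x = θ y := k.isFib.ext (hx.trans hy.symm) hxy
    have h2 := congrArg θ' h1
    rwa [← CommRingCat.comp_apply, ← CommRingCat.comp_apply, hθ₁] at h2
  · rw [hcker, RingHom.mem_ker, hc] at hx
    rw [ha, hiker, RingHom.mem_ker]
    show k.r2 (k.p2 (θ x)) = 0
    rw [← k.isFib.comm_apply, show k.p1 (θ x) = 0 from hx, map_zero]
  · rw [hiker, RingHom.mem_ker] at hy
    obtain ⟨t, ht1, ht2⟩ := k.isFib.glue 0 y (by rw [map_zero, hy])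
    refine ⟨θ' t, ?_, ?_⟩
    · rw [hcker, RingHom.mem_ker, hc]
      show k.p1 ((θ' ≫ θ) t) = 0
      rw [hθ₂]
      exact ht1
    · rw [ha]
      show k.p2 ((θ' ≫ θ) t) = y
      rw [hθ₂]
      exact ht2

theorem comap_ker (h : IsPinch i f a c) : c.ker.comap a = i.ker := by
  choose O U hpO _ hC using fun p : P => exists_chart h ⊤ p trivial
  refine Scheme.IdealSheafData.ext_of_iSup_eq_top U ?_ fun p => ?_
  · refine top_le_iff.1 fun x _ => TopologicalSpace.Opens.mem_iSup.2 ⟨a x, ?_⟩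
    rw [← (hC (a x)).eU]
    exact hpO (a x)
  · rw [Groth.L22.Ideals.comap_ideal a c.ker (O p) (U p) (hC p).eU.ge]
    exact map_eq _ _ _ (hC p).sub (hC p).lift

/-- A morphism from an affine open on which the inverse image ideal is principal lifts uniquely. -/
theorem existsUnique_local {O : P.affineOpens} {U : X.affineOpens} (hC : Chart a c i O U)
    {T : Scheme.{u}} (g : T ⟶ P) (W : T.affineOpens) (hW : W.1 ≤ g ⁻¹ᵁ O.1)
    {φ : Γ(T, W.1)} (hφ : φ ∈ nonZeroDivisors Γ(T, W.1))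
    (hI : (c.ker.comap g).ideal W = Ideal.span {φ}) :
    ∃! m : Spec Γ(T, W.1) ⟶ X, m ≫ a = W.2.fromSpec ≫ g := by
  rw [Groth.L22.Ideals.comap_ideal g c.ker O W hW] at hI
  obtain ⟨χ, hχ, huniq⟩ := existsUnique_ext (a.appLE O.1 U.1 hC.eU.ge).hom (c.ker.ideal O)
    (g.appLE O.1 W.1 hW).hom hC.inj (fun x hx b => hC.lift _ (Ideal.mul_mem_left _ b (hC.sub x hx))) hφ hI
  have hg : W.2.fromSpec ≫ g = Spec.map (g.appLE O.1 W.1 hW) ≫ O.2.fromSpec :=
    (O.2.SpecMap_appLE_fromSpec g W.2 hW).symm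
  have ha : U.2.fromSpec ≫ a = Spec.map (a.appLE O.1 U.1 hC.eU.ge) ≫ O.2.fromSpec :=
    (O.2.SpecMap_appLE_fromSpec a U.2 hC.eU.ge).symm
  refine ⟨Spec.map (CommRingCat.ofHom χ) ≫ U.2.fromSpec, ?_, fun m hm => ?_⟩
  · show (Spec.map (CommRingCat.ofHom χ) ≫ U.2.fromSpec) ≫ a = _
    rw [hg, Category.assoc, ha, ← Category.assoc, ← Spec.map_comp,
      show a.appLE O.1 U.1 hC.eU.ge ≫ CommRingCat.ofHom χ = g.appLE O.1 W.1 hW from CommRingCat.hom_ext hχ]
  · have hr : Set.range m ⊆ Set.range U.2.fromSpec := by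
      rintro _ ⟨z, rfl⟩
      rw [U.2.range_fromSpec, ← hC.eU]
      show a (m z) ∈ O.1
      rw [← Scheme.Hom.comp_apply, hm, Scheme.Hom.comp_apply]
      refine hW ?_
      have : W.2.fromSpec z ∈ Set.range W.2.fromSpec := ⟨z, rfl⟩
      rwa [W.2.range_fromSpec] at this
    obtain ⟨m', rfl⟩ : ∃ m', m' ≫ U.2.fromSpec = m := ⟨_, IsOpenImmersion.lift_fac _ _ hr⟩
    obtain ⟨χ', rfl⟩ := Spec.map_surjective m'
    congr 2
    refine CommRingCat.hom_ext (huniq χ'.hom ?_)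
    rw [hg, Category.assoc, ha, ← Category.assoc, ← Spec.map_comp] at hm
    exact congrArg CommRingCat.Hom.hom (Spec.map_injective ((cancel_mono O.2.fromSpec).1 hm))

/-- Principal ideals generated by nonzerodivisors restrict. -/
theorem principal_basicOpen {T : Scheme.{u}} (𝓘 : T.IdealSheafData) {V : T.affineOpens} {φ : Γ(T, V.1)}
    (hφ : φ ∈ nonZeroDivisors Γ(T, V.1)) (hI : 𝓘.ideal V = Ideal.span {φ}) (r : Γ(T, V.1)) :
    ∃ ψ ∈ nonZeroDivisors Γ(T, (T.affineBasicOpen r).1),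
      𝓘.ideal (T.affineBasicOpen r) = Ideal.span {ψ} := by
  haveI := V.2.isLocalization_basicOpen r
  refine ⟨algebraMap Γ(T, V.1) Γ(T, T.basicOpen r) φ, ?_, ?_⟩
  · refine isRegular_iff_mem_nonZeroDivisors.1 (isLeftRegular_iff_isRegular.1 ?_)
    exact isLeftRegular_iff.2 (IsSMulRegular.of_isLocalization (Γ(T, T.basicOpen r)) (Submonoid.powers r)
      (isLeftRegular_iff.1 (isRegular_iff_mem_nonZeroDivisors.2 hφ).left))
  · rw [← 𝓘.map_ideal_basicOpen V r, hI, Ideal.map_span, Set.image_singleton]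
    rfl

theorem exists_small (h : IsPinch i f a c) {T : Scheme.{u}} (g : T ⟶ P)
    (hg : BlowUp.IsEffCartierIdeal (c.ker.comap g)) (V : T.Opens) (y : T) (hy : y ∈ V) :
    ∃ (O : P.affineOpens) (U : X.affineOpens) (_ : Chart a c i O U) (W : T.affineOpens) (_ : W.1 ≤ g ⁻¹ᵁ O.1),
      y ∈ W.1 ∧ W.1 ≤ V ∧ ∃ φ ∈ nonZeroDivisors Γ(T, W.1), (c.ker.comap g).ideal W = Ideal.span {φ} := by
  obtain ⟨V₀, hyV₀, φ, hφ, hI⟩ := hg y
  obtain ⟨O, U, hyO, -, hC⟩ := exists_chart h ⊤ (g y) trivial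
  obtain ⟨r, hr, hyr⟩ := V₀.2.exists_basicOpen_le (V := V ⊓ g ⁻¹ᵁ O.1) ⟨y, hy, hyO⟩ hyV₀
  obtain ⟨ψ, hψ, hI'⟩ := principal_basicOpen _ hφ hI r
  exact ⟨O, U, hC, T.affineBasicOpen r, hr.trans inf_le_right, hyr, hr.trans inf_le_left, ψ, hψ, hI'⟩

/-- Lifts to the pinched scheme's source are unique. -/
theorem eq_of_comp_eq (h : IsPinch i f a c) {T : Scheme.{u}} (g : T ⟶ P)
    (hg : BlowUp.IsEffCartierIdeal (c.ker.comap g)) {Q : Scheme.{u}} (q : Q ⟶ T) [IsOpenImmersion q]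
    (r r' : Q ⟶ X) (hr : r ≫ a = q ≫ g) (hr' : r' ≫ a = q ≫ g) : r = r' := by
  choose O U hC W hW hyW hWV φ hφ hI using fun y : Q => exists_small h g hg q.opensRange (q y) ⟨y, rfl⟩
  have hsub : ∀ y, Set.range (W y).2.fromSpec ⊆ Set.range q := fun y => by
    rw [(W y).2.range_fromSpec]; exact hWV y
  let 𝒰 : Q.OpenCover :=
    { I₀ := Q
      X := fun y => Spec Γ(T, (W y).1)
      f := fun y => IsOpenImmersion.lift q (W y).2.fromSpec (hsub y)
      mem₀ := (Scheme.ofArrows_mem_precoverage_iff _).mpr ⟨fun y => ⟨y, by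
          have : q y ∈ Set.range (W y).2.fromSpec := by rw [(W y).2.range_fromSpec]; exact hyW y
          obtain ⟨z, hz⟩ := this
          refine ⟨z, q.isOpenEmbedding.injective ?_⟩
          rw [← Scheme.Hom.comp_apply, IsOpenImmersion.lift_fac]
          exact hz⟩, fun y =>
        haveI : IsOpenImmersion (IsOpenImmersion.lift q (W y).2.fromSpec (hsub y) ≫ q) := by
          rw [IsOpenImmersion.lift_fac]; infer_instance
        IsOpenImmersion.of_comp _ q⟩ }
  refine 𝒰.hom_ext _ _ fun y => ?_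
  refine (existsUnique_local (hC y) g (W y) (hW y) (hφ y) (hI y)).unique ?_ ?_
  · show (IsOpenImmersion.lift q _ (hsub y) ≫ r) ≫ a = _
    rw [Category.assoc, hr, IsOpenImmersion.lift_fac_assoc]
  · show (IsOpenImmersion.lift q _ (hsub y) ≫ r') ≫ a = _
    rw [Category.assoc, hr', IsOpenImmersion.lift_fac_assoc]

/-- The pinching map is a blowing up in the ideal of the pinched divisor. -/
theorem isBlowUp (h : IsPinch i f a c) (hi : BlowUp.IsEffCartierIdeal i.ker) :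
    BlowUp.IsBlowUp a c.ker := by
  refine ⟨(comap_ker h).symm ▸ hi, fun T g hg => ?_⟩
  choose O U hC W hW hyW _ φ hφ hI using fun y : T => exists_small h g hg ⊤ y trivial
  choose m hm _ using fun y : T => existsUnique_local (hC y) g (W y) (hW y) (hφ y) (hI y)
  let 𝒰 : T.OpenCover :=
    { I₀ := T
      X := fun y => Spec Γ(T, (W y).1)
      f := fun y => (W y).2.fromSpec
      mem₀ := (Scheme.ofArrows_mem_precoverage_iff _).mpr ⟨fun y => ⟨y, by
          show y ∈ Set.range (W y).2.fromSpec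
          rw [(W y).2.range_fromSpec]; exact hyW y⟩, fun y => inferInstance⟩ }
  let r := 𝒰.glueMorphisms m fun y z => eq_of_comp_eq h g hg (pullback.fst (𝒰.f y) (𝒰.f z) ≫ 𝒰.f y) _ _
    (by rw [Category.assoc, hm, Category.assoc])
    (by rw [Category.assoc, hm, ← Category.assoc, ← pullback.condition])
  have hr : r ≫ a = g := 𝒰.hom_ext _ _ fun y => by
    rw [𝒰.ι_glueMorphisms_assoc]; exact hm y
  exact ⟨r, hr, fun r' hr' => eq_of_comp_eq h g hg (𝟙 T) r' r (hr'.trans (Category.id_comp g).symm)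
    (hr.trans (Category.id_comp g).symm)⟩

end Groth.L04.PinchBlow
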